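import Groth.Agent.RelAssGen.Ring
import Groth.Agent.ConsPropLib.RelAss
import Groth.Agent.ConsPropLib.LociMod
import Groth.Agent.AssLib.Basic
import Mathlib

/-!
# Relatively associated points over a dense open of the base (EGA IV 9.8.1-9.8.3)
-/

universe u

set_option autoImplicit false
set_option linter.style.haveILetI false
set_option backward.isDefEq.respectTransparency false
set_option backward.isDefEq.respectTransparency.types false

open CategoryTheory CategoryTheory.Limits AlgebraicGeometry Topology TopologicalSpace IsLocalRing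

namespace Groth.Agent.RelAssGen

/-- The points of the base over which the relatively associated points lie in `U`. -/
def locus {X Y : Scheme.{u}} (f : X ⟶ Y) (F : X.Modules) (U : Set X) : Set Y :=
  {y | {x : X | x ∈ MoreMor.relAss f F ∧ f x = y} ⊆ U}

theorem locus_preimage {X S X' S' : Scheme.{u}} (f : X ⟶ S) [LocallyOfFiniteType f] {F : X.Modules}
    (hF : Coh.IsQCoh F) (U : Set X) {g : S' ⟶ S} {f' : X' ⟶ S'} {g' : X' ⟶ X} (hc : IsPullback g' f' f g) :
    locus f' ((Scheme.Modules.pullback g').obj F) (g' ⁻¹' U) = g ⁻¹' locus f F U :=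
  Set.ext fun s' => (ConsPropLib.relAss_fibre_subset_iff_baseChange f hF U g f' g' hc s').symm

theorem locus_congr {X Y : Scheme.{u}} (f : X ⟶ Y) {F G : X.Modules} (i : F ≅ G) (U : Set X) :
    locus f F U = locus f G U := Set.ext fun y => by
  show ({x : X | x ∈ MoreMor.relAss f F ∧ f x = y} ⊆ U) ↔ ({x : X | x ∈ MoreMor.relAss f G ∧ f x = y} ⊆ U)
  rw [ConsPropLib.relAss_fibre_subset_iff, ConsPropLib.relAss_fibre_subset_iff,
    Set.ext fun w => ConsPropLib.mem_ass_of_iso ((Scheme.Modules.pullback (f.fiberι y)).mapIso i) w]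

theorem notMem_of_mem_basicOpen {Y : Scheme.{u}} {V : Y.Opens} (hV : IsAffineOpen V) {x : Y} (hx : x ∈ V) {a : Γ(Y, V)}
    (h : x ∈ Y.basicOpen a) : a ∉ (hV.primeIdealOf ⟨x, hx⟩).asIdeal := by
  rw [← AssLib.comap_maximalIdeal_stalk hV hx]
  exact fun hm => hm ((Y.mem_basicOpen a x hx).1 h)

/-- The dichotomy over an integral affine base. -/
theorem dichotomy_integral_affine {X Y : Scheme.{u}} (f : X ⟶ Y) [IsIntegral Y] [IsAffine Y] [LocallyOfFiniteType f]
    [QuasiCompact f] {F : X.Modules} (hF : Coh.IsCoh F) (U : X.Opens) :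
    ∃ O : Y.Opens, (O : Set Y).Nonempty ∧
      ((O : Set Y) ⊆ locus f F (U : Set X) ∨ (O : Set Y) ⊆ (locus f F (U : Set X))ᶜ) := by
  haveI : CompactSpace X := QuasiCompact.compactSpace_of_compactSpace f
  obtain ⟨cov, hcov⟩ : ∃ cov : Finset X.affineOpens, ∀ x : X, ∃ W ∈ cov, x ∈ (W : X.Opens) := by
    obtain ⟨t, ht⟩ := isCompact_univ.elim_finite_subcover (fun W : X.affineOpens => ((W : X.Opens) : Set X))
      (fun W => W.1.2) (fun x _ => by
        obtain ⟨W, hW, hxW, -⟩ := exists_isAffineOpen_mem_and_subset (U := (⊤ : X.Opens)) (x := x) trivial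
        exact Set.mem_iUnion.2 ⟨⟨W, hW⟩, hxW⟩)
    exact ⟨t, fun x => by simpa using ht (Set.mem_univ x)⟩
  let V : Y.Opens := ⊤
  have hV : IsAffineOpen V := isAffineOpen_top Y
  haveI : Nonempty V := ⟨⟨genericPoint Y, trivial⟩⟩
  haveI : IsDomain Γ(Y, V) := IsIntegral.component_integral V
  -- the dichotomy on a chart
  have chart : ∀ W : X.affineOpens,
      (∃ a : Γ(Y, V), a ≠ 0 ∧ ∀ x ∈ (W : X.Opens), f x ∈ Y.basicOpen a → x ∈ MoreMor.relAss f F → x ∈ U) ∨
      ∃ a : Γ(Y, V), a ≠ 0 ∧ ∀ y ∈ Y.basicOpen a, ∃ x ∈ MoreMor.relAss f F, f x = y ∧ x ∉ U := by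
    rintro ⟨W, hW⟩
    have hle : W ≤ f ⁻¹ᵁ V := le_top
    letI := (f.appLE V W hle).hom.toAlgebra
    haveI : Algebra.FiniteType Γ(Y, V) Γ(X, W) := (f.finiteType_appLE hV hW hle)
    haveI : Module.Finite Γ(X, W) Γ(F, W) := QCoh.finite_of_isFT hF.1 hF.2 hW
    letI : Module Γ(Y, V) Γ(F, W) := Module.compHom Γ(F, W) (algebraMap Γ(Y, V) Γ(X, W))
    haveI : IsScalarTower Γ(Y, V) Γ(X, W) Γ(F, W) := IsScalarTower.of_algebraMap_smul fun _ _ => rfl
    let Z : Set (PrimeSpectrum Γ(X, W)) := (hW.fromSpec ⁻¹ᵁ U : Set (Spec Γ(X, W)))ᶜ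
    let I := PrimeSpectrum.vanishingIdeal Z
    have hI : ∀ q : PrimeSpectrum Γ(X, W), I ≤ q.asIdeal ↔ hW.fromSpec q ∉ U := fun q => by
      have hZ : IsClosed Z := (hW.fromSpec ⁻¹ᵁ U).2.isClosed_compl
      rw [show hW.fromSpec q ∉ U ↔ q ∈ Z from Iff.rfl]
      conv_rhs => rw [← hZ.closure_eq, ← PrimeSpectrum.zeroLocus_vanishingIdeal_eq_closure]
      rfl
    have hassoc : ∀ (x : X) (hx : x ∈ W),
        letI := QCoh.stalkAlg (X := X) hx
        letI : Algebra Γ(Y, V) (X.presheaf.stalk x) := ((f.appLE V W hle) ≫ X.presheaf.germ W x hx).hom.toAlgebra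
        x ∈ MoreMor.relAss f F ↔ IsAssociatedPrime (maximalIdeal (X.presheaf.stalk x))
          (F.presheaf.stalk x ⧸ ((((hW.primeIdealOf ⟨x, hx⟩).asIdeal.comap (algebraMap Γ(Y, V) Γ(X, W))).map
            (algebraMap Γ(Y, V) (X.presheaf.stalk x))) • ⊤ :
            Submodule (X.presheaf.stalk x) (F.presheaf.stalk x))) := fun x hx => by
      show IsAssociatedPrime _ (_ ⧸ (Codepth5.fibIdeal f x • ⊤ : Submodule _ _)) ↔ _
      exact iff_of_eq (congrArg (fun J : Ideal (X.presheaf.stalk x) => IsAssociatedPrime (maximalIdeal (X.presheaf.stalk x))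
        (F.presheaf.stalk x ⧸ (J • ⊤ : Submodule (X.presheaf.stalk x) (F.presheaf.stalk x))))
        (Codepth5.fibIdeal_eq f hW hV hle hx))
    have hfcomm : ∀ (x : X) (hx : x ∈ W),
        (hV.primeIdealOf ⟨f x, hle hx⟩).asIdeal = (hW.primeIdealOf ⟨x, hx⟩).asIdeal.comap (algebraMap Γ(Y, V) Γ(X, W)) :=
      fun x hx => by
        rw [← AssLib.comap_maximalIdeal_stalk hV (hle hx), ← AssLib.comap_maximalIdeal_stalk hW hx,
          Ideal.comap_comap, ← maximalIdeal_comap (f.stalkMap x).hom, Ideal.comap_comap]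
        congr 1
        exact RingHom.ext fun a =>
          (Scheme.Hom.germ_stalkMap_apply f V x (hle hx) a).trans (X.presheaf.germ_res_apply (homOfLE hle) x hx _).symm
    rcases fibre_dichotomy (A := Γ(Y, V)) Γ(F, W) I with ⟨a, ha, h⟩ | ⟨a, ha, h⟩
    · refine .inl ⟨a, ha, fun x hx hxa hxass => ?_⟩
      by_contra hxU
      letI := QCoh.stalkModule F hx
      haveI := QCoh.isLocalizedModule_germLin hF.1 hW hx
      letI := QCoh.stalkAlg (X := X) hx
      haveI := QCoh.isLocalization_stalk' hW hx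
      letI : Algebra Γ(Y, V) (X.presheaf.stalk x) := ((f.appLE V W hle) ≫ X.presheaf.germ W x hx).hom.toAlgebra
      haveI : IsScalarTower Γ(Y, V) Γ(X, W) (X.presheaf.stalk x) := IsScalarTower.of_algebraMap_eq fun _ => rfl
      haveI : IsScalarTower Γ(X, W) (X.presheaf.stalk x) (F.presheaf.stalk x) :=
        IsScalarTower.of_algebraMap_smul fun _ _ => rfl
      refine h (hW.primeIdealOf ⟨x, hx⟩).asIdeal ?_ ((hI _).2 (by rwa [hW.fromSpec_primeIdealOf]))
        (X.presheaf.stalk x) (F.presheaf.stalk x) (QCoh.germLin F hx) ((hassoc x hx).1 hxass)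
      rw [← Ideal.mem_comap, ← hfcomm x hx]
      exact notMem_of_mem_basicOpen hV (hle hx) hxa
    · refine .inr ⟨a, ha, fun y hy => ?_⟩
      have hya : a ∉ (hV.primeIdealOf ⟨y, trivial⟩).asIdeal := notMem_of_mem_basicOpen hV (x := y) trivial hy
      obtain ⟨q, hq, hIq, hqp, h⟩ := h _ hya
      let w : Spec Γ(X, W) := ⟨q, hq⟩
      have hxW : hW.fromSpec w ∈ W := hW.range_fromSpec.le ⟨w, rfl⟩
      have hwx : hW.primeIdealOf ⟨hW.fromSpec w, hxW⟩ = w :=
        hW.fromSpec.isOpenEmbedding.injective (hW.fromSpec_primeIdealOf ⟨_, hxW⟩)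
      have hfx : f (hW.fromSpec w) = y := by
        have h1 : hV.primeIdealOf ⟨f (hW.fromSpec w), hle hxW⟩ = hV.primeIdealOf ⟨y, trivial⟩ :=
          PrimeSpectrum.ext (by rw [hfcomm _ hxW, hwx]; exact hqp)
        have := congrArg hV.fromSpec h1
        rwa [hV.fromSpec_primeIdealOf, hV.fromSpec_primeIdealOf] at this
      letI := QCoh.stalkModule F hxW
      haveI := QCoh.isLocalizedModule_germLin hF.1 hW hxW
      letI := QCoh.stalkAlg (X := X) hxW
      haveI := QCoh.isLocalization_stalk' hW hxW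
      letI : Algebra Γ(Y, V) (X.presheaf.stalk (hW.fromSpec w)) :=
        ((f.appLE V W hle) ≫ X.presheaf.germ W _ hxW).hom.toAlgebra
      haveI : IsScalarTower Γ(Y, V) Γ(X, W) (X.presheaf.stalk (hW.fromSpec w)) :=
        IsScalarTower.of_algebraMap_eq fun _ => rfl
      haveI : IsScalarTower Γ(X, W) (X.presheaf.stalk (hW.fromSpec w)) (F.presheaf.stalk (hW.fromSpec w)) :=
        IsScalarTower.of_algebraMap_smul fun _ _ => rfl
      haveI : IsLocalization.AtPrime (X.presheaf.stalk (hW.fromSpec w)) q := by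
        have := QCoh.isLocalization_stalk' hW hxW
        rwa [hwx] at this
      haveI : IsLocalizedModule q.primeCompl (QCoh.germLin F hxW) := by
        have := QCoh.isLocalizedModule_germLin hF.1 hW hxW
        rwa [hwx] at this
      refine ⟨_, (hassoc _ hxW).2 ?_, hfx, (hI w).1 hIq⟩
      rw [hwx, hqp]
      exact h (X.presheaf.stalk (hW.fromSpec w)) (F.presheaf.stalk (hW.fromSpec w)) (QCoh.germLin F hxW)
  have hne : ∀ a : Γ(Y, V), a ≠ 0 → (Y.basicOpen a : Set Y).Nonempty := fun a ha =>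
    Set.nonempty_iff_ne_empty.2 fun he => ha ((basicOpen_eq_bot_iff a).1 (Opens.ext he))
  by_cases hneg : ∃ W : X.affineOpens, ∃ a : Γ(Y, V), a ≠ 0 ∧
      ∀ y ∈ Y.basicOpen a, ∃ x ∈ MoreMor.relAss f F, f x = y ∧ x ∉ U
  · obtain ⟨-, a, ha, h⟩ := hneg
    refine ⟨Y.basicOpen a, hne a ha, .inr fun y hy hy' => ?_⟩
    obtain ⟨x, hx, rfl, hxU⟩ := h y hy
    exact hxU (hy' ⟨hx, rfl⟩)
  · push_neg at hneg
    choose a ha h using fun W : X.affineOpens => (chart W).resolve_right fun ⟨a, ha, h⟩ => by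
      obtain ⟨y, hy, hy'⟩ := hneg W a ha
      obtain ⟨x, hx, hxy, hxU⟩ := h y hy
      exact hxU (hy' x hx hxy)
    refine ⟨Y.basicOpen (∏ W ∈ cov, a W), hne _ (Finset.prod_ne_zero_iff.2 fun W _ => ha W), .inl ?_⟩
    rintro y hy x ⟨hx, rfl⟩
    obtain ⟨W, hW, hxW⟩ := hcov x
    refine h W x hxW ?_ hx
    classical
    rw [← Finset.mul_prod_erase cov a hW, Scheme.basicOpen_mul] at hy
    exact hy.1

/-- The dichotomy over an irreducible base. -/
theorem dichotomy {X Y : Scheme.{u}} (f : X ⟶ Y) [IrreducibleSpace Y] [LocallyOfFiniteType f]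
    [QuasiCompact f] {F : X.Modules} (hF : Coh.IsCoh F) (U : X.Opens) :
    ∃ O : Y.Opens, (O : Set Y).Nonempty ∧
      ((O : Set Y) ⊆ locus f F (U : Set X) ∨ (O : Set Y) ⊆ (locus f F (U : Set X))ᶜ) := by
  obtain ⟨V, hV, hηV, -⟩ := exists_isAffineOpen_mem_and_subset (U := (⊤ : Y.Opens)) (x := genericPoint Y) trivial
  let A := Γ(Y, V)
  haveI : Nonempty (Spec A) := ⟨hV.primeIdealOf ⟨_, hηV⟩⟩
  haveI : PreirreducibleSpace (Spec A) := hV.fromSpec.isOpenEmbedding.preirreducibleSpace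
  haveI : IrreducibleSpace (Spec A) := { toNonempty := ‹Nonempty (Spec A)› }
  haveI hp : (nilradical A).IsPrime := (PrimeSpectrum.isIrreducible_zeroLocus_iff (⊥ : Ideal A)).1 (by
    rw [show PrimeSpectrum.zeroLocus ((⊥ : Ideal A) : Set A) = Set.univ from PrimeSpectrum.zeroLocus_bot]
    exact IrreducibleSpace.isIrreducible_univ (X := Spec A))
  haveI : IsDomain (A ⧸ nilradical A) := Ideal.Quotient.isDomain _
  let Y₁ := Spec (CommRingCat.of (A ⧸ nilradical A))
  haveI : IsIntegral Y₁ := inferInstanceAs (IsIntegral (Spec (CommRingCat.of (A ⧸ nilradical A))))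
  let r : Y₁ ⟶ Spec A := Spec.map (CommRingCat.ofHom (Ideal.Quotient.mk (nilradical A)))
  have hr : IsHomeomorph r := PrimeSpectrum.isHomeomorph_comap (Ideal.Quotient.mk (nilradical A))
    (fun x => ⟨1, one_pos, by rw [pow_one]; exact Ideal.Quotient.mk_surjective x⟩) Ideal.mk_ker.le
  let g : Y₁ ⟶ Y := r ≫ hV.fromSpec
  obtain ⟨O, hO, h⟩ := dichotomy_integral_affine (pullback.snd f g)
    (ZClosLib.isCoh_pullback (pullback.fst f g) hF) (pullback.fst f g ⁻¹ᵁ U)
  have hg : IsOpenMap g := hV.fromSpec.isOpenEmbedding.isOpenMap.comp hr.isOpenMap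
  refine ⟨⟨g '' O, hg _ O.2⟩, hO.image _, ?_⟩
  have hpre := locus_preimage f hF.1 (U : Set X) (IsPullback.of_hasPullback f g)
  rcases h with h | h
  · refine .inl (Set.image_subset_iff.2 ?_)
    rw [← hpre]
    exact h
  · refine .inr (Set.image_subset_iff.2 ?_)
    rw [Set.preimage_compl, ← hpre]
    exact h

end Groth.Agent.RelAssGen
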