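import Groth.Agent.RelAssGen.Scheme
import Mathlib

/-!
# The generic points of the fibres of the closure of a relatively associated point (EGA IV 9.8.2)
-/

universe u

set_option autoImplicit false
set_option linter.style.haveILetI false
set_option backward.isDefEq.respectTransparency false
set_option backward.isDefEq.respectTransparency.types false

open CategoryTheory CategoryTheory.Limits AlgebraicGeometry Topology TopologicalSpace IsLocalRing

namespace Groth.Agent.RelAssGen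

theorem exists_open_minimal_relAss_integral {X Y : Scheme.{u}} (f : X ⟶ Y) [IsIntegral Y] [IsAffine Y]
    [LocallyOfFiniteType f] {F : X.Modules} (hF : Coh.IsCoh F) {ξ : X} (hξ : ξ ∈ MoreMor.relAss f F)
    (hξη : f ξ = genericPoint Y) :
    ∃ O : X.Opens, ξ ∈ O ∧ ∀ x ∈ O, ξ ⤳ x →
      (∀ z ∈ O, ξ ⤳ z → z ⤳ x → f z = f x → z = x) → x ∈ MoreMor.relAss f F := by
  obtain ⟨W, hW, hξW, -⟩ := exists_isAffineOpen_mem_and_subset (U := (⊤ : X.Opens)) (x := ξ) trivial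
  let V : Y.Opens := ⊤
  have hV : IsAffineOpen V := isAffineOpen_top Y
  haveI : Nonempty V := ⟨⟨genericPoint Y, trivial⟩⟩
  haveI : IsDomain Γ(Y, V) := IsIntegral.component_integral V
  have hle : W ≤ f ⁻¹ᵁ V := le_top
  letI := (f.appLE V W hle).hom.toAlgebra
  haveI : Algebra.FiniteType Γ(Y, V) Γ(X, W) := (f.finiteType_appLE hV hW hle)
  haveI : Module.Finite Γ(X, W) Γ(F, W) := QCoh.finite_of_isFT hF.1 hF.2 hW
  letI : Module Γ(Y, V) Γ(F, W) := Module.compHom Γ(F, W) (algebraMap Γ(Y, V) Γ(X, W))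
  haveI : IsScalarTower Γ(Y, V) Γ(X, W) Γ(F, W) := IsScalarTower.of_algebraMap_smul fun _ _ => rfl
  have hassoc : ∀ (x : X) (hx : x ∈ W),
      letI := QCoh.stalkAlg (X := X) hx
      letI : Algebra Γ(Y, V) (X.presheaf.stalk x) := ((f.appLE V W hle) ≫ X.presheaf.germ W x hx).hom.toAlgebra
      x ∈ MoreMor.relAss f F ↔ IsAssociatedPrime (maximalIdeal (X.presheaf.stalk x))
        (F.presheaf.stalk x ⧸ ((((hW.primeIdealOf ⟨x, hx⟩).asIdeal.comap (algebraMap Γ(Y, V) Γ(X, W))).map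
          (algebraMap Γ(Y, V) (X.presheaf.stalk x))) • ⊤ :
          Submodule (X.presheaf.stalk x) (F.presheaf.stalk x))) := fun x hx => by
    show IsAssociatedPrime _ (_ ⧸ (Codepth5.fibIdeal f x • ⊤ : Submodule _ _)) ↔ _
    exact iff_of_eq (congrArg (fun J : Ideal (X.presheaf.stalk x) => IsAssociatedPrime (maximalIdeal (X.presheaf.stalk x))
      (F.presheaf.stalk x ⧸ (J • ⊤ : Submodule (X.presheaf.stalk x) (F.presheaf.stalk x))))
      (Codepth5.fibIdeal_eq f hW hV hle hx))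
  have hfcomm : ∀ (x : X) (hx : x ∈ W),
      (hV.primeIdealOf ⟨f x, hle hx⟩).asIdeal = (hW.primeIdealOf ⟨x, hx⟩).asIdeal.comap (algebraMap Γ(Y, V) Γ(X, W)) :=
    fun x hx => by
      rw [← AssLib.comap_maximalIdeal_stalk hV (hle hx), ← AssLib.comap_maximalIdeal_stalk hW hx,
        Ideal.comap_comap, ← maximalIdeal_comap (f.stalkMap x).hom, Ideal.comap_comap]
      congr 1
      exact RingHom.ext fun a =>
        (Scheme.Hom.germ_stalkMap_apply f V x (hle hx) a).trans (X.presheaf.germ_res_apply (homOfLE hle) x hx _).symm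
  let q₀ := (hW.primeIdealOf ⟨ξ, hξW⟩).asIdeal
  have hq₀A : q₀.comap (algebraMap Γ(Y, V) Γ(X, W)) = ⊥ := by
    rw [← hfcomm ξ hξW, eq_bot_iff]
    intro a ha
    rw [Ideal.mem_bot]
    by_contra ha0
    refine notMem_of_mem_basicOpen hV (hle hξW) ?_ ha
    rw [hξη]
    exact ((genericPoint_spec Y).mem_open_set_iff (Y.basicOpen a).2).2 (by
      rw [Set.univ_inter]
      exact Set.nonempty_iff_ne_empty.2 fun he => ha0 ((basicOpen_eq_bot_iff a).1 (Opens.ext he)))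
  -- the element at `ξ`
  obtain ⟨m, hm₁, hm₂⟩ : ∃ m : Γ(F, W), (∀ b ∈ q₀, ∃ (c : Γ(Y, V)) (n : ℕ), c ≠ 0 ∧ c • b ^ n • m = 0) ∧
      ∀ (b : Γ(X, W)) (c : Γ(Y, V)), c ≠ 0 → c • b • m = 0 → b ∈ q₀ := by
    letI := QCoh.stalkModule F hξW
    haveI := QCoh.isLocalizedModule_germLin hF.1 hW hξW
    letI := QCoh.stalkAlg (X := X) hξW
    haveI := QCoh.isLocalization_stalk' hW hξW
    haveI : IsScalarTower Γ(X, W) (X.presheaf.stalk ξ) (F.presheaf.stalk ξ) :=
      IsScalarTower.of_algebraMap_smul fun _ _ => rfl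
    refine exists_elt_of_isAssociatedPrime Γ(F, W) q₀ hq₀A (X.presheaf.stalk ξ) (F.presheaf.stalk ξ)
      (QCoh.germLin F hξW) ?_
    have h := (hassoc ξ hξW).1 hξ
    rw [show (hW.primeIdealOf ⟨ξ, hξW⟩).asIdeal.comap (algebraMap Γ(Y, V) Γ(X, W)) = ⊥ from hq₀A] at h
    exact (isAssociatedPrime_maximal_equiv ((Submodule.quotEquivOfEqBot _ (by rw [Ideal.map_bot, Submodule.bot_smul])))).1 h
  obtain ⟨a₁, ha₁, hfree₁, -⟩ := Groth.Agent.S0389.result (R := Γ(Y, V)) (S := Γ(X, W)) (M := Γ(F, W))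
  obtain ⟨a₂, ha₂, hfree₂, -⟩ :=
    Groth.Agent.S0389.result (R := Γ(Y, V)) (S := Γ(X, W)) (M := Γ(F, W) ⧸ Submodule.span Γ(X, W) {m})
  haveI := hfree₁
  haveI := hfree₂
  refine ⟨W ⊓ f ⁻¹ᵁ Y.basicOpen (a₁ * a₂), ⟨hξW, ?_⟩, ?_⟩
  · show f ξ ∈ Y.basicOpen (a₁ * a₂)
    rw [hξη]
    exact ((genericPoint_spec Y).mem_open_set_iff (Y.basicOpen (a₁ * a₂)).2).2 (by
      rw [Set.univ_inter]
      exact Set.nonempty_iff_ne_empty.2 fun he => mul_ne_zero ha₁ ha₂ ((basicOpen_eq_bot_iff _).1 (Opens.ext he)))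
  rintro x ⟨hxW, hxa⟩ hξx hmin
  have hna := notMem_of_mem_basicOpen hV (hle hxW) hxa
  letI := QCoh.stalkModule F hxW
  haveI := QCoh.isLocalizedModule_germLin hF.1 hW hxW
  letI := QCoh.stalkAlg (X := X) hxW
  haveI := QCoh.isLocalization_stalk' hW hxW
  letI : Algebra Γ(Y, V) (X.presheaf.stalk x) := ((f.appLE V W hle) ≫ X.presheaf.germ W x hxW).hom.toAlgebra
  haveI : IsScalarTower Γ(Y, V) Γ(X, W) (X.presheaf.stalk x) := IsScalarTower.of_algebraMap_eq fun _ => rfl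
  haveI : IsScalarTower Γ(X, W) (X.presheaf.stalk x) (F.presheaf.stalk x) :=
    IsScalarTower.of_algebraMap_smul fun _ _ => rfl
  refine (hassoc x hxW).2 (isAssociatedPrime_of_minimal Γ(F, W) a₁ a₂ ha₁ q₀ m hm₁ hm₂
    ((hW.primeIdealOf ⟨x, hxW⟩).asIdeal.comap (algebraMap Γ(Y, V) Γ(X, W))) ?_ ?_
    (hW.primeIdealOf ⟨x, hxW⟩).asIdeal rfl ?_ (X.presheaf.stalk x) (F.presheaf.stalk x) (QCoh.germLin F hxW))
  · rw [← hfcomm x hxW]
    exact fun h => hna (Ideal.mul_mem_right _ _ h)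
  · rw [← hfcomm x hxW]
    exact fun h => hna (Ideal.mul_mem_left _ _ h)
  · refine ⟨⟨inferInstance, sup_le ((AssLib.primeIdealOf_le_iff hW hxW hξW).2 hξx) Ideal.map_comap_le⟩, ?_⟩
    intro q' ⟨hq', hle'⟩ hq'le
    let z := hW.fromSpec ⟨q', hq'⟩
    have hzW : z ∈ W := hW.range_fromSpec.le ⟨_, rfl⟩
    have hwz : hW.primeIdealOf ⟨z, hzW⟩ = ⟨q', hq'⟩ :=
      hW.fromSpec.isOpenEmbedding.injective (hW.fromSpec_primeIdealOf ⟨_, hzW⟩)
    have hzx : z ⤳ x := (AssLib.primeIdealOf_le_iff hW hxW hzW).1 (by rw [hwz]; exact hq'le)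
    have hξz : ξ ⤳ z := (AssLib.primeIdealOf_le_iff hW hzW hξW).1 (by rw [hwz]; exact le_sup_left.trans hle')
    have hfz : f z = f x := by
      have h1 : hV.primeIdealOf ⟨f z, hle hzW⟩ = hV.primeIdealOf ⟨f x, hle hxW⟩ := PrimeSpectrum.ext (by
        rw [hfcomm _ hzW, hfcomm _ hxW, hwz]
        exact le_antisymm (Ideal.comap_mono hq'le) (Ideal.map_le_iff_le_comap.1 (le_sup_right.trans hle')))
      have := congrArg hV.fromSpec h1
      rwa [hV.fromSpec_primeIdealOf, hV.fromSpec_primeIdealOf] at this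
    have hzeq : z = x := hmin z ⟨hzW, show f z ∈ Y.basicOpen (a₁ * a₂) from hfz.symm ▸ hxa⟩ hξz hzx hfz
    exact ((AssLib.primeIdealOf_le_iff hW hzW hxW).2 (specializes_of_eq hzeq.symm)).trans_eq (congrArg PrimeSpectrum.asIdeal hwz)
where
  isAssociatedPrime_maximal_equiv {A : Type u} [CommRing A] [IsLocalRing A] {M N : Type u} [AddCommGroup M]
      [Module A M] [AddCommGroup N] [Module A N] (e : M ≃ₗ[A] N) :
      IsAssociatedPrime (maximalIdeal A) M ↔ IsAssociatedPrime (maximalIdeal A) N :=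
    Groth.Agent.ConsPropLib.isAssociatedPrime_maximal_semilinear_iff (RingHom.id A) Function.surjective_id e.toAddEquiv
      fun r m => e.map_smul r m

theorem relAss_iff_baseChange {X S X' S' : Scheme.{u}} (f : X ⟶ S) [LocallyOfFiniteType f]
    {F : X.Modules} (hF : Coh.IsQCoh F) {g : S' ⟶ S} {f' : X' ⟶ S'} {g' : X' ⟶ X} (hc : IsPullback g' f' f g)
    (hinj : Function.Injective g') (x' : X') :
    x' ∈ MoreMor.relAss f' ((Scheme.Modules.pullback g').obj F) ↔ g' x' ∈ MoreMor.relAss f F := by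
  have h := ConsPropLib.relAss_fibre_subset_iff_baseChange f hF {g' x'}ᶜ g f' g' hc (f' x')
  constructor
  · intro hx'
    by_contra hx
    exact (h.1 fun x hx'' he => hx (he ▸ hx''.1)) ⟨hx', rfl⟩ rfl
  · intro hx
    by_contra hx'
    refine (h.2 fun z hz he => hx' (hinj he ▸ hz.1)) ⟨hx, ?_⟩ rfl
    rw [← Scheme.Hom.comp_apply, hc.w, Scheme.Hom.comp_apply]

theorem exists_open_minimal_relAss {X S : Scheme.{u}} (f : X ⟶ S) [LocallyOfFiniteType f] {F : X.Modules}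
    (hF : Coh.IsCoh F) {ξ : X} (hξ : ξ ∈ MoreMor.relAss f F) :
    ∃ O : X.Opens, ξ ∈ O ∧ ∀ x ∈ O, ξ ⤳ x →
      (∀ z ∈ O, ξ ⤳ z → z ⤳ x → f z = f x → z = x) → x ∈ MoreMor.relAss f F := by
  obtain ⟨V, hV, hξV, -⟩ := exists_isAffineOpen_mem_and_subset (U := (⊤ : S.Opens)) (x := f ξ) trivial
  let p := (hV.primeIdealOf ⟨f ξ, hξV⟩).asIdeal
  let Y₁ := Spec (CommRingCat.of (Γ(S, V) ⧸ p))
  haveI : IsDomain (Γ(S, V) ⧸ p) := Ideal.Quotient.isDomain p
  haveI : IsIntegral Y₁ := inferInstanceAs (IsIntegral (Spec (CommRingCat.of (Γ(S, V) ⧸ p))))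
  let r : Y₁ ⟶ Spec Γ(S, V) := Spec.map (CommRingCat.ofHom (Ideal.Quotient.mk p))
  haveI : IsClosedImmersion r := IsClosedImmersion.spec_of_surjective _ Ideal.Quotient.mk_surjective
  let g : Y₁ ⟶ S := r ≫ hV.fromSpec
  haveI : IsPreimmersion g := inferInstance
  let f' := pullback.snd f g
  let g' := pullback.fst f g
  have hc : IsPullback g' f' f g := IsPullback.of_hasPullback f g
  haveI : IsPreimmersion g' := MorphismProperty.of_isPullback hc.flip ‹IsPreimmersion g›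
  have hemb : IsEmbedding g' := g'.isEmbedding
  -- the range
  have hrange : ∀ y ∈ V, f ξ ⤳ y → y ∈ Set.range g := fun y hy hsp => by
    have hple : p ≤ (hV.primeIdealOf ⟨y, hy⟩).asIdeal := (AssLib.primeIdealOf_le_iff hV hy hξV).2 hsp
    obtain ⟨w, hw⟩ : hV.primeIdealOf ⟨y, hy⟩ ∈ Set.range r := by
      rw [show Set.range r = PrimeSpectrum.zeroLocus (p : Set Γ(S, V)) from
        (range_comap_of_surjective _ (Ideal.Quotient.mk p) Ideal.Quotient.mk_surjective).trans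
          (congrArg (fun I : Ideal Γ(S, V) => PrimeSpectrum.zeroLocus (I : Set Γ(S, V))) Ideal.mk_ker)]
      exact hple
    exact ⟨w, by rw [Scheme.Hom.comp_apply, hw, hV.fromSpec_primeIdealOf]⟩
  have hgη : g (genericPoint Y₁) = f ξ := by
    obtain ⟨w, hw⟩ := hrange (f ξ) hξV specializes_rfl
    have h1 : r (genericPoint Y₁) ⤳ hV.primeIdealOf ⟨f ξ, hξV⟩ := by
      have hw' : r w = hV.primeIdealOf ⟨f ξ, hξV⟩ := hV.fromSpec.isOpenEmbedding.injective (by
        rw [← Scheme.Hom.comp_apply, hw, hV.fromSpec_primeIdealOf])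
      rw [← hw']
      exact (genericPoint_specializes w).map r.continuous
    have h2 : hV.primeIdealOf ⟨f ξ, hξV⟩ ⤳ r (genericPoint Y₁) := by
      rw [← PrimeSpectrum.le_iff_specializes]
      intro a ha
      show Ideal.Quotient.mk p a ∈ (genericPoint Y₁ : PrimeSpectrum (Γ(S, V) ⧸ p)).asIdeal
      rw [Ideal.Quotient.eq_zero_iff_mem.2 ha]
      exact zero_mem _
    rw [Scheme.Hom.comp_apply, (h1.antisymm h2).eq, hV.fromSpec_primeIdealOf]
  obtain ⟨ξ', hξ'g, hξ'f⟩ := Scheme.Pullback.exists_preimage_pullback ξ (genericPoint Y₁) hgη.symm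
  have hξ' : ξ' ∈ MoreMor.relAss f' ((Scheme.Modules.pullback g').obj F) := by
    rw [relAss_iff_baseChange f hF.1 hc hemb.injective]
    show pullback.fst f g ξ' ∈ _
    rwa [hξ'g]
  obtain ⟨O', hξO', hO'⟩ := exists_open_minimal_relAss_integral f' (ZClosLib.isCoh_pullback g' hF) hξ' hξ'f
  obtain ⟨O, hO, hOO'⟩ := hemb.isInducing.isOpen_iff.1 O'.2
  refine ⟨⟨O, hO⟩ ⊓ f ⁻¹ᵁ V, ⟨?_, hξV⟩, ?_⟩
  · rw [← hξ'g]
    exact hOO'.ge hξO'
  rintro x ⟨hxO, hxV⟩ hξx hmin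
  obtain ⟨y, hy⟩ := hrange (f x) hxV (hξx.map f.continuous)
  obtain ⟨x', hx'g, -⟩ := Scheme.Pullback.exists_preimage_pullback x y hy.symm
  have hx'g' : g' x' = x := hx'g
  rw [← hx'g', ← relAss_iff_baseChange f hF.1 hc hemb.injective]
  refine hO' x' (hOO'.le (show g' x' ∈ O from hx'g'.symm ▸ hxO)) ?_ fun z hz hξz hzx hfz => hemb.injective ?_
  · rw [← hemb.isInducing.specializes_iff, hx'g', show g' ξ' = ξ from hξ'g]
    exact hξx
  have hw : ∀ u, f (g' u) = g (f' u) := fun u => by rw [← Scheme.Hom.comp_apply, hc.w, Scheme.Hom.comp_apply]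
  have hfz' : f (g' z) = f x := by rw [hw, hfz, ← hw, hx'g']
  rw [hx'g']
  refine hmin (g' z) ⟨hOO'.ge hz, show f (g' z) ∈ V from hfz'.symm ▸ hxV⟩ ?_ ?_ hfz'
  · rw [← show g' ξ' = ξ from hξ'g]
    exact hξz.map g'.continuous
  · rw [← hx'g']
    exact hzx.map g'.continuous

theorem exists_nhd_generic_fibre_points {X S : Scheme.{u}} (f : X ⟶ S) [LocallyOfFiniteType f] {F : X.Modules}
    (hF : Coh.IsCoh F) {ξ : X} (hξ : ξ ∈ MoreMor.relAss f F) :
    ∃ V : Set X, V ⊆ closure {ξ} ∧ IsOpen (Subtype.val ⁻¹' V : Set ↑(closure ({ξ} : Set X))) ∧ V.Nonempty ∧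
      ∀ (x : X) (hx : x ∈ V), (∃ C ∈ irreducibleComponents ↑(V ∩ f ⁻¹' {f x}),
        IsGenericPoint (⟨x, hx, rfl⟩ : ↑(V ∩ f ⁻¹' {f x})) C) → x ∈ MoreMor.relAss f F := by
  obtain ⟨O, hξO, hO⟩ := exists_open_minimal_relAss f hF hξ
  refine ⟨closure {ξ} ∩ O, Set.inter_subset_left, ?_, ⟨ξ, subset_closure rfl, hξO⟩, ?_⟩
  · rw [Set.preimage_inter, Subtype.coe_preimage_self, Set.univ_inter]
    exact O.2.preimage continuous_subtype_val
  rintro x hx ⟨C, hC, hgen⟩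
  refine hO x hx.2 (specializes_iff_mem_closure.2 hx.1) fun z hz hξz hzx hfz => ?_
  let x₀ : ↑((closure {ξ} ∩ (O : Set X)) ∩ f ⁻¹' {f x}) := ⟨x, hx, rfl⟩
  let z₀ : ↑((closure {ξ} ∩ (O : Set X)) ∩ f ⁻¹' {f x}) := ⟨z, ⟨specializes_iff_mem_closure.1 hξz, hz⟩, hfz⟩
  have h1 : z₀ ⤳ x₀ := (IsInducing.subtypeVal.specializes_iff).1 hzx
  have hsub : C ⊆ closure {z₀} := by
    rw [← show closure {x₀} = C from hgen.def]
    exact closure_minimal (Set.singleton_subset_iff.2 h1.mem_closure) isClosed_closure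
  have h2 : z₀ ∈ C := (hC.2 isIrreducible_singleton.closure hsub) (subset_closure rfl)
  exact congrArg Subtype.val ((h1.antisymm (hgen.specializes h2)).eq)

end Groth.Agent.RelAssGen
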