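import Groth.Agent.RelAssGen.Scheme
import Groth.Agent.H1FlatLimit.Noeth
import Mathlib

/-!
# Constructibility of the locus where the relatively associated points lie in an open (EGA IV 9.8)
-/

universe u

set_option autoImplicit false
set_option linter.style.haveILetI false
set_option backward.isDefEq.respectTransparency false
set_option backward.isDefEq.respectTransparency.types false
set_option maxHeartbeats 1000000

open CategoryTheory CategoryTheory.Limits AlgebraicGeometry Topology TopologicalSpace Opposite Groth.Agent.MorLib Groth.Agent.ConsPropLib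

namespace Groth.Agent.RelAssGen

theorem isConstructible_locus_noetherian {X S : Scheme.{u}} [IsNoetherian S] (f : X ⟶ S) [LocallyOfFiniteType f]
    [QuasiCompact f] {F : X.Modules} (hF : Coh.IsCoh F) (U : X.Opens) : IsConstructible (locus f F (U : Set X)) :=
  ConsPropLib.isConstructible_of_dichotomy _ fun T j _ _ _ => by
    have hpre := locus_preimage f hF.1 (U : Set X) (IsPullback.of_hasPullback f j)
    rw [← hpre]
    obtain ⟨O, hO, h⟩ := dichotomy (pullback.snd f j) (ZClosLib.isCoh_pullback (pullback.fst f j) hF)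
      (pullback.fst f j ⁻¹ᵁ U)
    rcases h with h | h
    · exact .inl (hO.mono (interior_maximal h O.2))
    · exact .inr (hO.mono (interior_maximal h O.2))

theorem isLocallyConstructible_locus {X S : Scheme.{u}} (f : X ⟶ S) [LocallyOfFinitePresentation f] [QuasiCompact f]
    [QuasiSeparated f] {F : X.Modules} (hFq : Coh.IsQCoh F) (hF : CohB1.IsFP F) (U : X.Opens)
    [QuasiCompact (U.ι ≫ f)] : IsLocallyConstructible (locus f F (U : Set X)) :=
  ConsPropLib.lc_of_affine fun V hV => by
    haveI : IsAffine (V : Scheme.{u}) := hV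
    let A := Γ((V : Scheme.{u}), ⊤)
    let XV := pullback f V.ι
    let UV : XV.Opens := pullback.fst f V.ι ⁻¹ᵁ U
    let fV : XV ⟶ Spec (CommRingCat.of A) := pullback.snd f V.ι ≫ (V : Scheme.{u}).isoSpec.hom
    let FV := (Scheme.Modules.pullback (pullback.fst f V.ι)).obj F
    haveI : Coh.IsQCoh FV := QCoh.isQCoh_pullback _ hFq
    obtain ⟨s, X₁, f₁, g₁, G, hlfp, hqc, hqs, sq, hG, hGft, -, ⟨i⟩⟩ :=
      H1FlatLimit.exists_noetherian_descent fV FV (RGLib.Lim8.isFP_pullback _ hFq hF)
    haveI := hlfp
    haveI := hqc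
    let D := NoethApprox.diagram (CommRingCat.of A)
    let c : Cone D := NoethApprox.cone (CommRingCat.of A)
    have hc : IsLimit c := NoethApprox.isLimit (CommRingCat.of A)
    haveI : ∀ (i j) (φ : i ⟶ j), IsAffineHom (D.map φ) := fun _ _ φ => NoethApprox.isAffineHom_map _ φ
    let fc : XV ⟶ c.pt := fV
    have sqc : IsPullback g₁ fc f₁ (c.π.app (op s)) := sq
    have hlim := H1FlatLimit.isLimitStages sqc hc
    haveI hmap : ∀ {i j : Over (op s)} (a : i ⟶ j), IsAffineHom ((H1FlatLimit.stages D (op s) f₁).map a) :=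
      fun a => H1FlatLimit.stages_map_isAffineHom D (op s) f₁ a
    -- `U` is quasi-compact over `V`
    have hUc : IsCompact (UV : Set XV) := by
      haveI : QuasiCompact (UV.ι ≫ pullback.snd f V.ι) := by
        have h : IsPullback (pullback.fst f V.ι ∣_ U) (UV.ι ≫ pullback.snd f V.ι) (U.ι ≫ f) V.ι :=
          ((isPullback_morphismRestrict (pullback.fst f V.ι) U).paste_vert (IsPullback.of_hasPullback f V.ι))
        exact MorphismProperty.of_isPullback h ‹QuasiCompact (U.ι ≫ f)›
      exact isCompact_iff_compactSpace.2 (QuasiCompact.compactSpace_of_compactSpace (UV.ι ≫ pullback.snd f V.ι))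
    obtain ⟨j, U₀, -, hU₀⟩ := exists_preimage_eq (H1FlatLimit.stages D (op s) f₁) (H1FlatLimit.stagesCone sqc) hlim UV hUc
    obtain ⟨f₀, _, _, hG₀, q, sq₀, i₀, rfl, hq₁⟩ := H1FlatLimit.exists_stage_model f₁ g₁ sqc inferInstance hG hGft i j
    have hqeq : q = H1FlatLimit.toStage sqc j := by
      refine pullback.hom_ext ?_ ?_
      · rw [hq₁, H1FlatLimit.toStage_fst]
      · rw [sq₀.w, H1FlatLimit.toStage_snd]
    let π₀ := c.π.app j.left
    have sq' : IsPullback q (pullback.snd f V.ι) (pullback.snd f₁ (D.map j.hom)) ((V : Scheme.{u}).isoSpec.hom ≫ π₀) :=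
      sq₀.of_iso (Iso.refl _) (Iso.refl _) (V : Scheme.{u}).isoSpec.symm (Iso.refl _) (by simp) (by simp [fc, fV])
        (by simp [D]) (by simp [π₀])
    haveI : IsNoetherian (D.obj j.left) := NoethApprox.isNoetherian_obj (CommRingCat.of A) j.left
    haveI : IsAffine (D.obj j.left) := NoethApprox.isAffine_obj _ j.left
    have e : (V.ι ⁻¹' locus f F (U : Set X) : Set (V : Scheme.{u})) = ((V : Scheme.{u}).isoSpec.hom ≫ π₀) ⁻¹'
        locus (pullback.snd f₁ (D.map j.hom)) ((Scheme.Modules.pullback (pullback.fst f₁ (D.map j.hom))).obj G)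
          (U₀ : Set ((H1FlatLimit.stages D (op s) f₁).obj j)) := by
      rw [← locus_preimage f hFq (U : Set X) (IsPullback.of_hasPullback f V.ι), ← locus_preimage _ hG₀.1 _ sq',
        locus_congr _ i₀]
      congr 1
      rw [hqeq]
      exact congrArg (fun W : XV.Opens => (W : Set XV)) hU₀.symm
    rw [e]
    haveI : IsAffineHom ((V : Scheme.{u}).isoSpec.hom ≫ π₀) := isAffineHom_of_isAffine _
    exact MorLib.LimCons.isConstructible_preimage _ (isConstructible_locus_noetherian _ hG₀ U₀)

end Groth.Agent.RelAssGen
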