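import Groth.Agent.S0389
import Mathlib

/-!
# Associated primes of the fibres over a dense open of an integral base (EGA IV 9.8.1-9.8.3)

The base is an arbitrary domain, the algebra of finite type, the module finite.
-/

universe u

set_option autoImplicit false
set_option linter.style.haveILetI false

open IsLocalRing TensorProduct

namespace Groth.Agent.RelAssGen

/-- Elements of `p • ⊤` in a localised module come from `p • ⊤` up to a denominator. -/
theorem exists_smul_eq_of_mem_smul_top {A B : Type u} [CommRing A] [CommRing B] [Algebra A B] (S : Submonoid B)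
    {M G : Type u} [AddCommGroup M] [Module B M] [Module A M] [IsScalarTower A B M]
    [AddCommGroup G] [Module B G] [Module A G] [IsScalarTower A B G]
    (l : M →ₗ[B] G) [IsLocalizedModule S l] (I : Ideal A) {z : G} (hz : z ∈ I • (⊤ : Submodule A G)) :
    ∃ s ∈ S, ∃ n ∈ I • (⊤ : Submodule A M), s • z = l n := by
  refine Submodule.smul_induction_on hz (fun a ha y _ => ?_) fun y y' hy hy' => ?_
  · obtain ⟨⟨m, s⟩, hm⟩ := IsLocalizedModule.surj S l y
    refine ⟨s, s.2, a • m, Submodule.smul_mem_smul ha trivial, ?_⟩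
    rw [l.map_smul_of_tower, smul_comm, ← hm]
    rfl
  · obtain ⟨s, hs, n, hn, e⟩ := hy
    obtain ⟨s', hs', n', hn', e'⟩ := hy'
    refine ⟨s * s', S.mul_mem hs hs', s' • n + s • n', add_mem ?_ ?_, ?_⟩
    · exact Submodule.smul_induction_on hn
        (fun a ha w _ => by rw [smul_comm]; exact Submodule.smul_mem_smul ha trivial)
        fun w w' hw hw' => by rw [smul_add]; exact add_mem hw hw'
    · exact Submodule.smul_induction_on hn'
        (fun a ha w _ => by rw [smul_comm]; exact Submodule.smul_mem_smul ha trivial)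
        fun w w' hw hw' => by rw [smul_add]; exact add_mem hw hw'
    · rw [map_add, map_smul, map_smul, ← e, ← e', smul_add, smul_smul, smul_smul, mul_comm s' s]

/-- Scaling preserves `I • ⊤`. -/
theorem smul_mem_smul_top' {A B : Type u} [CommRing A] [CommRing B] [Algebra A B] {M : Type u} [AddCommGroup M]
    [Module B M] [Module A M] [IsScalarTower A B M] {I : Ideal A} (b : B) {n : M}
    (hn : n ∈ I • (⊤ : Submodule A M)) : b • n ∈ I • (⊤ : Submodule A M) :=
  Submodule.smul_induction_on hn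
    (fun a ha w _ => by rw [smul_comm]; exact Submodule.smul_mem_smul ha trivial)
    fun w w' hw hw' => by rw [smul_add]; exact add_mem hw hw'

/-- `I • ⊤` does not depend on the ring of scalars. -/
theorem mem_smul_top_of_mem_map_smul_top {A B : Type u} [CommRing A] [CommRing B] [Algebra A B] {M : Type u}
    [AddCommGroup M] [Module B M] [Module A M] [IsScalarTower A B M] {I : Ideal A} {z : M}
    (hz : z ∈ I.map (algebraMap A B) • (⊤ : Submodule B M)) : z ∈ I • (⊤ : Submodule A M) := by
  refine Submodule.smul_induction_on hz (fun r hr n _ => ?_) fun _ _ => add_mem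
  refine Submodule.span_induction (p := fun r _ => ∀ n : M, r • n ∈ I • (⊤ : Submodule A M)) ?_ ?_ ?_ ?_ hr n
  · rintro _ ⟨a, ha, rfl⟩ w
    rw [algebraMap_smul]
    exact Submodule.smul_mem_smul ha trivial
  · intro w
    rw [zero_smul]
    exact zero_mem _
  · intro x y _ _ hx hy w
    rw [add_smul]
    exact add_mem (hx w) (hy w)
  · intro c x _ hx w
    rw [smul_eq_mul, mul_comm, mul_smul]
    exact hx _

theorem map_smul_top_le {A M G : Type u} [CommRing A] [AddCommGroup M] [Module A M] [AddCommGroup G] [Module A G]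
    (l : M →ₗ[A] G) (I : Ideal A) {x : M} (hx : x ∈ I • (⊤ : Submodule A M)) : l x ∈ I • (⊤ : Submodule A G) :=
  Submodule.smul_induction_on hx (fun a ha w _ => by rw [map_smul]; exact Submodule.smul_mem_smul ha trivial)
    fun w w' hw hw' => by rw [map_add]; exact add_mem hw hw'

section flat

variable {A : Type u} [CommRing A] {N' N C : Type u} [AddCommGroup N'] [Module A N'] [AddCommGroup N] [Module A N]
  [AddCommGroup C] [Module A C] (φ : N' →ₗ[A] N) (g : N →ₗ[A] C)

/-- A flat cokernel makes `φ⁻¹(I N) = I N'`. -/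
theorem mem_smul_top_of_flat_coker [Module.Flat A C] (hex : Function.Exact φ g) (hg : Function.Surjective g)
    (hφ : Function.Injective φ) (I : Ideal A) {x : N'} (hx : φ x ∈ I • (⊤ : Submodule A N)) :
    x ∈ I • (⊤ : Submodule A N') := by
  have hinj := LinearMap.lTensor_injective_of_exact_of_flat g hg φ hφ hex (A ⧸ I)
  have key : ∀ (L : Type u) [AddCommGroup L] [Module A L] (y : L),
      y ∈ I • (⊤ : Submodule A L) ↔ (Ideal.Quotient.mk I (1 : A)) ⊗ₜ[A] y = 0 := fun L _ _ y => by
    rw [← (TensorProduct.quotTensorEquivQuotSMul L I).map_eq_zero_iff, ← Submodule.Quotient.mk_eq_zero]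
    simp
  refine (key _ x).2 (hinj ?_)
  rw [LinearMap.lTensor_tmul, map_zero]
  exact (key _ _).1 hx

/-- The same after inverting an element. -/
theorem exists_pow_smul_mem_smul_top_of_flat_coker (hex : Function.Exact φ g) (hg : Function.Surjective g) (a : A)
    (hφ : ∀ x, φ x = 0 → ∃ k : ℕ, a ^ k • x = 0)
    [Module.Flat (Localization.Away a) (Localization.Away a ⊗[A] C)] (I : Ideal A) {x : N'}
    (hx : φ x ∈ I • (⊤ : Submodule A N)) :
    ∃ k : ℕ, a ^ k • x ∈ I • (⊤ : Submodule A N') := by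
  let T := Localization.Away a
  haveI : Module.Flat A T := IsLocalization.flat T (Submonoid.powers a)
  haveI : Module.Flat A (T ⊗[A] C) := Module.Flat.trans A T _
  let l' : N' →ₗ[A] T ⊗[A] N' := TensorProduct.mk A T N' 1
  have hinj : Function.Injective (φ.lTensor T) := by
    rw [injective_iff_map_eq_zero]
    intro z hz
    obtain ⟨⟨y, s⟩, hy⟩ := IsLocalizedModule.surj (Submonoid.powers a) l' z
    have h0 : TensorProduct.mk A T N 1 (φ y) = 0 := by
      have := congrArg (φ.lTensor T) hy
      rw [Submonoid.smul_def, map_smul, hz, smul_zero] at this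
      exact this.symm
    obtain ⟨⟨_, k, rfl⟩, hk⟩ := (IsLocalizedModule.eq_zero_iff (Submonoid.powers a) (TensorProduct.mk A T N 1)).1 h0
    change a ^ k • φ y = 0 at hk
    rw [← map_smul] at hk
    obtain ⟨j, hj⟩ := hφ _ hk
    have hy0 : l' y = 0 :=
      (IsLocalizedModule.eq_zero_iff (Submonoid.powers a) l').2 ⟨⟨a ^ (j + k), j + k, rfl⟩, by
        show a ^ (j + k) • y = 0
        rw [pow_add, mul_smul]; exact hj⟩
    exact IsLocalizedModule.smul_injective l' s (by
      show s • z = s • 0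
      rw [hy, hy0, smul_zero])
  have h1 : φ.lTensor T (l' x) ∈ I • (⊤ : Submodule A (T ⊗[A] N)) :=
    map_smul_top_le (TensorProduct.mk A T N 1) I hx
  obtain ⟨s, hs, n, hn, e⟩ := exists_smul_eq_of_mem_smul_top (Submonoid.powers a) l' I
    (mem_smul_top_of_flat_coker (φ.lTensor T) (g.lTensor T) (lTensor_exact T hex hg)
      (LinearMap.lTensor_surjective T hg) hinj I h1)
  rw [← map_smul, IsLocalizedModule.eq_iff_exists (Submonoid.powers a) l'] at e
  obtain ⟨⟨_, j, rfl⟩, e⟩ := e
  obtain ⟨k, rfl⟩ := hs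
  refine ⟨j + k, ?_⟩
  rw [pow_add, mul_smul]
  change a ^ j • a ^ k • x = a ^ j • n at e
  rw [e]
  exact Submodule.smul_mem _ _ hn

end flat

/-- Freeness over `A[1/b]` gives flatness over `A[1/a]` for `b ∣ a`. -/
theorem flat_away_of_free {A : Type u} [CommRing A] {C : Type u} [AddCommGroup C] [Module A C] {a b : A} (hba : b ∣ a)
    [Module.Free (Localization.Away b) (Localization.Away b ⊗[A] C)] :
    Module.Flat (Localization.Away a) (Localization.Away a ⊗[A] C) := by
  obtain ⟨d, rfl⟩ := hba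
  have hu : IsUnit (algebraMap A (Localization.Away (b * d)) b) := by
    have h := IsLocalization.map_units (Localization.Away (b * d))
      (⟨b * d, Submonoid.mem_powers _⟩ : Submonoid.powers (b * d))
    rw [map_mul] at h
    exact isUnit_of_mul_isUnit_left h
  letI : Algebra (Localization.Away b) (Localization.Away (b * d)) := (IsLocalization.Away.lift b hu).toAlgebra
  haveI : IsScalarTower A (Localization.Away b) (Localization.Away (b * d)) :=
    IsScalarTower.of_algebraMap_eq fun x => (IsLocalization.Away.lift_eq b hu x).symm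
  exact Module.Flat.of_linearEquiv
    (TensorProduct.AlgebraTensorModule.cancelBaseChange A (Localization.Away b) (Localization.Away (b * d))
      (Localization.Away (b * d)) C).symm

section main

variable {A B : Type u} [CommRing A] [IsDomain A] [CommRing B] [Algebra A B] [Algebra.FiniteType A B]
  (M : Type u) [AddCommGroup M] [Module B M] [Module A M] [IsScalarTower A B M] [Module.Finite B M]

/-- Torsion dies where the module is free. -/
theorem exists_pow_smul_eq_zero_of_torsion (a : A) (ha : a ≠ 0)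
    [Module.Free (Localization.Away a) (Localization.Away a ⊗[A] M)] {x : M} {c : A} (hc : c ≠ 0) (hx : c • x = 0) :
    ∃ k : ℕ, a ^ k • x = 0 := by
  let T := Localization.Away a
  have hle : Submonoid.powers a ≤ nonZeroDivisors A := powers_le_nonZeroDivisors_of_noZeroDivisors ha
  haveI : IsDomain T := IsLocalization.isDomain_localization hle
  have hcT : algebraMap A T c ≠ 0 :=
    (map_ne_zero_iff _ (IsLocalization.injective T hle)).2 hc
  haveI : Module.IsTorsionFree T (T ⊗[A] M) := inferInstance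
  have h0 : TensorProduct.mk A T M 1 x = 0 := by
    refine (smul_eq_zero.1 (?_ : algebraMap A T c • TensorProduct.mk A T M 1 x = 0)).resolve_left hcT
    rw [algebraMap_smul, ← map_smul, hx, map_zero]
  obtain ⟨⟨_, k, rfl⟩, hk⟩ := (IsLocalizedModule.eq_zero_iff (Submonoid.powers a) (TensorProduct.mk A T M 1)).1 h0
  exact ⟨k, hk⟩

/-- The localisation of `B` at the nonzero elements of `A` is Noetherian. -/
theorem isNoetherianRing_generic :
    IsNoetherianRing (Localization (Algebra.algebraMapSubmonoid B (nonZeroDivisors A))) := by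
  let S := Algebra.algebraMapSubmonoid B (nonZeroDivisors A)
  let R := Localization S
  have hunit : ∀ c : nonZeroDivisors A, IsUnit (algebraMap A R c) := fun c => by
    rw [IsScalarTower.algebraMap_apply A B R]
    exact IsLocalization.map_units R (⟨_, Algebra.mem_algebraMapSubmonoid_of_mem c⟩ : S)
  let K := FractionRing A
  let ψ : K →ₐ[A] R := IsLocalization.liftAlgHom (M := nonZeroDivisors A) (f := Algebra.ofId A R) hunit
  let φ := Algebra.TensorProduct.productMap ψ (IsScalarTower.toAlgHom A B R)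
  haveI : Algebra.FiniteType K (K ⊗[A] B) := inferInstance
  haveI : IsNoetherianRing (K ⊗[A] B) := Algebra.FiniteType.isNoetherianRing K _
  refine isNoetherianRing_of_surjective (K ⊗[A] B) R φ.toRingHom fun r => ?_
  obtain ⟨b, ⟨_, c, hc, rfl⟩, rfl⟩ := IsLocalization.exists_mk'_eq S r
  refine ⟨IsLocalization.mk' K (1 : A) (⟨c, hc⟩ : nonZeroDivisors A) ⊗ₜ b, ?_⟩
  show φ _ = _
  rw [Algebra.TensorProduct.productMap_apply_tmul, IsScalarTower.coe_toAlgHom', IsLocalization.eq_mk'_iff_mul_eq]
  show ψ _ * algebraMap B R b * algebraMap B R (algebraMap A B c) = algebraMap B R b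
  rw [← IsScalarTower.algebraMap_apply A B R, ← ψ.commutes c, mul_right_comm, ← map_mul,
    IsLocalization.mk'_spec, map_one, map_one, one_mul]

/-- Either some element of `I` is generically a nonzerodivisor, or `I` lies in a generic associated prime. -/
theorem generic_dichotomy (I : Ideal B) :
    (∃ h ∈ I, ∀ (x : M) (c : A), c ≠ 0 → c • h • x = 0 → ∃ c' : A, c' ≠ 0 ∧ c' • x = 0) ∨
      ∃ q : Ideal B, q.IsPrime ∧ I ≤ q ∧ q.comap (algebraMap A B) = ⊥ ∧
        ∃ m : M, ∀ b : B, b ∈ q ↔ ∃ c : A, c ≠ 0 ∧ c • b • m = 0 := by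
  let S := Algebra.algebraMapSubmonoid B (nonZeroDivisors A)
  let R := Localization S
  let N := LocalizedModule S M
  let l : M →ₗ[B] N := LocalizedModule.mkLinearMap S M
  haveI := isNoetherianRing_generic (A := A) (B := B)
  haveI : Module.Finite R N := Module.Finite.of_isLocalizedModule S l
  have hl : ∀ x : M, l x = 0 ↔ ∃ c : A, c ≠ 0 ∧ c • x = 0 := fun x => by
    rw [IsLocalizedModule.eq_zero_iff S l]
    constructor
    · rintro ⟨⟨_, c, hc, rfl⟩, h⟩
      exact ⟨c, nonZeroDivisors.ne_zero hc, (algebraMap_smul B c x).symm.trans h⟩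
    · rintro ⟨c, hc, h⟩
      exact ⟨⟨_, Algebra.mem_algebraMapSubmonoid_of_mem ⟨c, mem_nonZeroDivisors_of_ne_zero hc⟩⟩, by
        rw [Submonoid.smul_def]; exact (algebraMap_smul B c x).trans h⟩
  let Qs : Finset (Ideal R) := (associatedPrimes.finite R N).toFinset
  by_cases hI : (I : Set B) ⊆ ⋃ Q ∈ (Qs : Set (Ideal R)), (Q.comap (algebraMap B R) : Set B)
  · obtain ⟨Q, hQ, hle⟩ := (Ideal.subset_union_prime (s := Qs) (f := fun Q => Q.comap (algebraMap B R)) ⊥ ⊥
      fun Q hQ _ _ => by
        haveI := ((Set.Finite.mem_toFinset _).1 hQ).isPrime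
        exact Ideal.IsPrime.comap _).1 hI
    have hQ' : IsAssociatedPrime Q N := (Set.Finite.mem_toFinset _).1 hQ
    haveI := hQ'.isPrime
    obtain ⟨-, n, hn⟩ := isAssociatedPrime_iff.1 hQ'
    obtain ⟨⟨m, s⟩, hs⟩ := IsLocalizedModule.surj S l n
    refine .inr ⟨Q.comap (algebraMap B R), Ideal.IsPrime.comap _, hle, ?_, m, fun b => ?_⟩
    · rw [eq_bot_iff]
      intro c hc
      rw [Ideal.mem_bot]
      by_contra hc0
      exact hQ'.isPrime.ne_top (Ideal.eq_top_of_isUnit_mem _ hc (IsLocalization.map_units R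
        (⟨_, Algebra.mem_algebraMapSubmonoid_of_mem ⟨c, mem_nonZeroDivisors_of_ne_zero hc0⟩⟩ : S)))
    · rw [← hl, Ideal.mem_comap, hn, Submodule.mem_colon_singleton, Submodule.mem_bot, algebraMap_smul, map_smul, ← hs]
      show b • n = 0 ↔ b • (s : B) • n = 0
      rw [smul_comm b (s : B) n]
      exact ⟨fun h => by rw [h, smul_zero], fun h => IsLocalizedModule.smul_injective l s (h.trans (smul_zero _).symm)⟩
  · obtain ⟨h, hhI, hh⟩ := Set.not_subset.1 hI
    refine .inl ⟨h, hhI, fun x c hc hx => (hl x).1 ?_⟩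
    by_contra hne
    have : algebraMap B R h ∈ ⋃ Q ∈ associatedPrimes R N, (Q : Set R) := by
      rw [biUnion_associatedPrimes_eq_zero_divisors]
      exact ⟨l x, hne, by rw [algebraMap_smul, ← map_smul]; exact (hl _).2 ⟨c, hc, hx⟩⟩
    obtain ⟨Q, hQ, hhQ⟩ := Set.mem_iUnion₂.1 this
    exact hh (Set.mem_iUnion₂.2 ⟨Q, (Set.Finite.mem_toFinset _).2 hQ, hhQ⟩)

/-- The fibre of `V(q₀)` over a point of a dense open of the base is not empty. -/
theorem exists_prime_over (q₀ : Ideal B) (hq₀A : q₀.comap (algebraMap A B) = ⊥) (a₃ : A) (ha₃ : a₃ ≠ 0)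
    [Module.Free (Localization.Away a₃) (Localization.Away a₃ ⊗[A] (B ⧸ q₀))] (p : Ideal A) [p.IsPrime] (hap₃ : a₃ ∉ p) :
    ∃ q' : Ideal B, q'.IsPrime ∧ q₀ ≤ q' ∧ q'.comap (algebraMap A B) = p := by
  let T := Localization.Away a₃
  let W := T ⊗[A] (B ⧸ q₀)
  haveI : Nontrivial W := by
    rw [← not_subsingleton_iff_nontrivial]
    intro hsub
    obtain ⟨⟨_, k, rfl⟩, hk⟩ := (IsLocalizedModule.eq_zero_iff (Submonoid.powers a₃)
      (TensorProduct.mk A T (B ⧸ q₀) 1)).1 (Subsingleton.elim (TensorProduct.mk A T (B ⧸ q₀) 1 1) 0)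
    change a₃ ^ k • (1 : B ⧸ q₀) = 0 at hk
    have hk' : algebraMap A B (a₃ ^ k) ∈ q₀ :=
      Ideal.Quotient.eq_zero_iff_mem.1 (by
        rw [← Ideal.Quotient.algebraMap_eq, ← IsScalarTower.algebraMap_apply, Algebra.algebraMap_eq_smul_one]
        exact hk)
    rw [← Ideal.mem_comap, hq₀A, Ideal.mem_bot] at hk'
    exact pow_ne_zero k ha₃ hk'
  haveI : Module.FaithfullyFlat T W := inferInstance
  have hdis : Disjoint (Submonoid.powers a₃ : Set A) (p : Set A) := Set.disjoint_left.2 fun _ ⟨k, hk⟩ hp =>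
    hap₃ (‹p.IsPrime›.mem_of_pow_mem k (show a₃ ^ k ∈ p by rw [show a₃ ^ k = _ from hk]; exact hp))
  obtain ⟨w, hw⟩ := PrimeSpectrum.comap_surjective_of_faithfullyFlat (A := T) (B := W)
    ⟨p.map (algebraMap A T), IsLocalization.isPrime_of_isPrime_disjoint (Submonoid.powers a₃) T p ‹_› hdis⟩
  let inc : B →+* W :=
    (Algebra.TensorProduct.includeRight (R := A) (A := T) (B := B ⧸ q₀)).toRingHom.comp (Ideal.Quotient.mk q₀)
  refine ⟨w.asIdeal.comap inc, Ideal.IsPrime.comap _, fun b hb => ?_, ?_⟩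
  · show inc b ∈ w.asIdeal
    rw [show inc b = 0 by simp [inc, Ideal.Quotient.eq_zero_iff_mem.2 hb]]
    exact zero_mem _
  · rw [Ideal.comap_comap, show inc.comp (algebraMap A B) = (algebraMap T W).comp (algebraMap A T) from
      RingHom.ext fun r => by
        show Algebra.TensorProduct.includeRight (algebraMap A (B ⧸ q₀) r) = algebraMap T W (algebraMap A T r)
        rw [AlgHom.commutes, IsScalarTower.algebraMap_apply A T W],
      ← Ideal.comap_comap]
    rw [show w.asIdeal.comap (algebraMap T W) = p.map (algebraMap A T) from congrArg PrimeSpectrum.asIdeal hw]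
    exact IsLocalization.under_map_of_isPrime_disjoint (Submonoid.powers a₃) T ‹_› hdis

/-- The minimal primes over `q₀` in a fibre are associated to the fibre of the module, where `M` and
`M ⧸ B m` are free, for `m` with annihilator `q₀` up to torsion and radical. -/
theorem isAssociatedPrime_of_minimal (a₁ a₂ : A) (ha₁ : a₁ ≠ 0)
    [Module.Free (Localization.Away a₁) (Localization.Away a₁ ⊗[A] M)] (q₀ : Ideal B) (m : M)
    [Module.Free (Localization.Away a₂) (Localization.Away a₂ ⊗[A] (M ⧸ Submodule.span B {m}))]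
    (hm₁ : ∀ b ∈ q₀, ∃ (c : A) (n : ℕ), c ≠ 0 ∧ c • b ^ n • m = 0)
    (hm₂ : ∀ (b : B) (c : A), c ≠ 0 → c • b • m = 0 → b ∈ q₀)
    (p : Ideal A) [p.IsPrime] (hap₁ : a₁ ∉ p) (hap₂ : a₂ ∉ p) (q : Ideal B) [hqp : q.IsPrime]
    (hqA : q.comap (algebraMap A B) = p) (hqmin : q ∈ (q₀ ⊔ p.map (algebraMap A B)).minimalPrimes)
    (O : Type u) [CommRing O] [IsLocalRing O] [Algebra B O] [IsLocalization.AtPrime O q] [Algebra A O]
    [IsScalarTower A B O] (G : Type u) [AddCommGroup G] [Module O G] [Module B G] [IsScalarTower B O G]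
    (l : M →ₗ[B] G) [IsLocalizedModule q.primeCompl l] :
    IsAssociatedPrime (maximalIdeal O) (G ⧸ (p.map (algebraMap A O) • ⊤ : Submodule O G)) := by
  have htor : ∀ b ∈ q₀, ∃ k n : ℕ, a₁ ^ k • b ^ n • m = 0 := fun b hb => by
    obtain ⟨c, n, hc, hcb⟩ := hm₁ b hb
    obtain ⟨k, hk⟩ := exists_pow_smul_eq_zero_of_torsion M a₁ ha₁ hc hcb
    exact ⟨k, n, hk⟩
  have hq₀q : q₀ ≤ q := le_sup_left.trans hqmin.1.2
  have hpq : p.map (algebraMap A B) ≤ q := le_sup_right.trans hqmin.1.2
  letI : Module A G := Module.compHom G (algebraMap A O)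
  haveI : IsScalarTower A O G := IsScalarTower.of_algebraMap_smul fun _ _ => rfl
  haveI : IsScalarTower A B G := IsScalarTower.of_algebraMap_smul fun r n => by
    rw [← algebraMap_smul O (algebraMap A B r) n, ← IsScalarTower.algebraMap_apply A B O]
    rfl
  let P : Submodule O G := p.map (algebraMap A O) • ⊤
  let y : G ⧸ P := Submodule.Quotient.mk (l m)
  refine ⟨(maximalIdeal.isMaximal O).isPrime, y, le_antisymm ?_ ?_⟩
  · -- the annihilator is large
    let J := (⊥ : Submodule O (G ⧸ P)).colon {y}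
    have hJ : ∀ b ∈ q₀ ⊔ p.map (algebraMap A B), algebraMap B O b ∈ J.radical := by
      refine fun b hb => (sup_le ?_ (Ideal.map_le_iff_le_comap.2 ?_) : q₀ ⊔ _ ≤ J.radical.comap (algebraMap B O)) hb
      · intro b hb
        obtain ⟨k, n, hk⟩ := htor b hb
        refine ⟨n, ?_⟩
        rw [← map_pow, Submodule.mem_colon_singleton, Submodule.mem_bot]
        have hu : IsUnit (algebraMap B O (algebraMap A B (a₁ ^ k))) :=
          IsLocalization.map_units O (⟨_, fun h => hap₁ (by
            rw [← hqA, Ideal.mem_comap]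
            rw [map_pow] at h
            exact hqp.mem_of_pow_mem k h)⟩ : q.primeCompl)
        refine hu.smul_left_cancel.1 (Eq.trans ?_ (smul_zero _).symm)
        rw [← Submodule.Quotient.mk_smul, ← Submodule.Quotient.mk_smul, algebraMap_smul O (b ^ n) (l m), ← map_smul,
          algebraMap_smul O (algebraMap A B (a₁ ^ k)) (l (b ^ n • m)), ← map_smul, algebraMap_smul B, hk, map_zero,
          Submodule.Quotient.mk_zero]
      · intro r hr
        rw [Ideal.mem_comap, Ideal.mem_comap]
        refine Ideal.le_radical ?_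
        rw [Submodule.mem_colon_singleton, Submodule.mem_bot,
          ← IsScalarTower.algebraMap_apply A B O, ← Submodule.Quotient.mk_smul, Submodule.Quotient.mk_eq_zero]
        exact Submodule.smul_mem_smul (Ideal.mem_map_of_mem _ hr) trivial
    rw [Ideal.radical_eq_sInf]
    refine le_sInf fun Q ⟨hQ, hQp⟩ => ?_
    haveI := hQp
    have hQq : Q.comap (algebraMap B O) ≤ q := fun b hb => by
      by_contra hbq
      exact hQp.ne_top (Ideal.eq_top_of_isUnit_mem _ hb (IsLocalization.map_units O (⟨b, hbq⟩ : q.primeCompl)))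
    have hQeq : q ≤ Q.comap (algebraMap B O) := hqmin.2 ⟨Ideal.IsPrime.comap _, fun b hb => (hQp.radical_le_iff.2 hQ) (hJ b hb)⟩ hQq
    rw [← IsLocalization.AtPrime.map_eq_maximalIdeal q O]
    exact Ideal.map_le_iff_le_comap.2 hQeq
  · -- and proper
    haveI := flat_away_of_free (C := M ⧸ Submodule.span B {m}) (a := a₁ * a₂) (dvd_mul_left a₂ a₁)
    refine (maximalIdeal.isMaximal O).isPrime.radical_le_iff.2 fun r hr => ?_
    rw [Submodule.mem_colon_singleton, Submodule.mem_bot, ← Submodule.Quotient.mk_smul,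
      Submodule.Quotient.mk_eq_zero] at hr
    obtain ⟨b, s, rfl⟩ := IsLocalization.exists_mk'_eq q.primeCompl r
    rw [IsLocalization.AtPrime.mk'_mem_maximal_iff O q]
    have hb : l (b • m) ∈ p • (⊤ : Submodule A G) := by
      refine mem_smul_top_of_mem_map_smul_top (B := O) ?_
      have := P.smul_mem (algebraMap B O (s : B)) hr
      rwa [smul_smul, mul_comm, IsLocalization.mk'_spec, algebraMap_smul, ← map_smul] at this
    obtain ⟨t, ht, n, hn, e⟩ := exists_smul_eq_of_mem_smul_top q.primeCompl l p hb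
    rw [← map_smul, IsLocalizedModule.eq_iff_exists q.primeCompl l] at e
    obtain ⟨⟨w, hw⟩, e⟩ := e
    change w • t • b • m = w • n at e
    let N' := Submodule.span B {m}
    let ψ : N' →ₗ[A] M := N'.subtype.restrictScalars A
    have h2 : ψ ⟨w • t • b • m, N'.smul_mem _ (N'.smul_mem _ (N'.smul_mem _ (Submodule.mem_span_singleton_self m)))⟩
        ∈ p • (⊤ : Submodule A M) := by
      show w • t • b • m ∈ _
      rw [e]
      exact smul_mem_smul_top' _ hn
    obtain ⟨k, hk⟩ := exists_pow_smul_mem_smul_top_of_flat_coker ψ (N'.mkQ.restrictScalars A)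
      (fun z => (LinearMap.exact_subtype_mkQ N') z) (Submodule.mkQ_surjective _) (a₁ * a₂)
      (fun z hz => ⟨0, by rw [pow_zero, one_smul]; exact Subtype.ext hz⟩) p h2
    obtain ⟨e', he', hek⟩ : ∃ e' ∈ p.map (algebraMap A B), (a₁ * a₂) ^ k • w • t • b • m = e' • m := by
      refine Submodule.smul_induction_on
        (p := fun (z : N') => ∃ e' ∈ p.map (algebraMap A B), (z : M) = e' • m) hk ?_ ?_
      · rintro r hr ⟨z, hz⟩ -
        obtain ⟨c, rfl⟩ := Submodule.mem_span_singleton.1 hz
        refine ⟨algebraMap A B r * c, Ideal.mul_mem_right _ _ (Ideal.mem_map_of_mem _ hr), ?_⟩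
        rw [mul_smul, algebraMap_smul]
        rfl
      · rintro x y ⟨u, hu, hxu⟩ ⟨v, hv, hyv⟩
        exact ⟨u + v, add_mem hu hv, by rw [add_smul, Submodule.coe_add, hxu, hyv]⟩
    have hmem : algebraMap A B ((a₁ * a₂) ^ k) * (w * (t * b)) - e' ∈ q := hq₀q (hm₂ _ 1 one_ne_zero (by
      rw [one_smul, sub_smul, mul_smul, mul_smul, mul_smul, algebraMap_smul, hek, sub_self]))
    have hmem' := add_mem hmem (hpq he')
    rw [sub_add_cancel] at hmem'
    refine ((hqp.mem_or_mem ((hqp.mem_or_mem ((hqp.mem_or_mem hmem').resolve_left fun h => ?_)).resolve_left hw))).resolve_left ht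
    rw [map_pow] at h
    have := hqp.mem_of_pow_mem k h
    rw [← Ideal.mem_comap, hqA] at this
    exact (‹p.IsPrime›.mem_or_mem this).elim hap₁ hap₂

/-- An associated point of the generic fibre gives an element with that annihilator, up to torsion and radical. -/
theorem exists_elt_of_isAssociatedPrime (q₀ : Ideal B) [q₀.IsPrime] (hq₀A : q₀.comap (algebraMap A B) = ⊥)
    (O : Type u) [CommRing O] [IsLocalRing O] [Algebra B O] [IsLocalization.AtPrime O q₀]
    (G : Type u) [AddCommGroup G] [Module O G] [Module B G] [IsScalarTower B O G]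
    (l : M →ₗ[B] G) [IsLocalizedModule q₀.primeCompl l] (h : IsAssociatedPrime (maximalIdeal O) G) :
    ∃ m : M, (∀ b ∈ q₀, ∃ (c : A) (n : ℕ), c ≠ 0 ∧ c • b ^ n • m = 0) ∧
      ∀ (b : B) (c : A), c ≠ 0 → c • b • m = 0 → b ∈ q₀ := by
  classical
  let S := Algebra.algebraMapSubmonoid B (nonZeroDivisors A)
  let R := Localization S
  haveI := isNoetherianRing_generic (A := A) (B := B)
  obtain ⟨-, y, hy⟩ := h
  obtain ⟨⟨x, s⟩, hs⟩ := IsLocalizedModule.surj q₀.primeCompl l y
  change (s : B) • y = l x at hs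
  -- finitely many generators of `q₀` up to torsion
  obtain ⟨T, hT⟩ : (q₀.map (algebraMap B R)).FG := IsNoetherian.noetherian _
  have hmem : ∀ z : T, ∃ (i : q₀) (t : S), (z : R) * algebraMap B R t = algebraMap B R i := fun z => by
    obtain ⟨⟨i, t⟩, e⟩ := (IsLocalization.mem_map_algebraMap_iff S R).1 (hT.le (Ideal.subset_span z.2) :
      (z : R) ∈ q₀.map (algebraMap B R))
    exact ⟨i, t, e⟩
  choose i t hit using hmem
  have hgen : ∀ b ∈ q₀, ∃ c : A, c ≠ 0 ∧ algebraMap A B c * b ∈ Ideal.span (Set.range fun z => (i z : B)) := fun b hb => by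
    have hle : q₀.map (algebraMap B R) ≤ (Ideal.span (Set.range fun z => (i z : B))).map (algebraMap B R) := by
      rw [← hT]
      refine Ideal.span_le.2 fun z hz => ?_
      have h1 : algebraMap B R (i ⟨z, hz⟩ : B) ∈ (Ideal.span (Set.range fun z => (i z : B))).map (algebraMap B R) :=
        Ideal.mem_map_of_mem _ (Ideal.subset_span ⟨_, rfl⟩)
      rw [← hit ⟨z, hz⟩, mul_comm] at h1
      exact (Ideal.unit_mul_mem_iff_mem _ (IsLocalization.map_units R _)).1 h1
    obtain ⟨⟨⟨j, hj⟩, u⟩, e⟩ := (IsLocalization.mem_map_algebraMap_iff S R).1 (hle (Ideal.mem_map_of_mem _ hb))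
    rw [← map_mul] at e
    obtain ⟨w, e⟩ := (IsLocalization.eq_iff_exists S R).1 e
    obtain ⟨c, hc, hcu⟩ := (u * w).2
    refine ⟨c, nonZeroDivisors.ne_zero hc, ?_⟩
    rw [hcu, Submonoid.coe_mul, mul_comm (u : B), mul_assoc, mul_comm (u : B) b, e]
    exact Ideal.mul_mem_left _ _ hj
  have hkill : ∀ z : T, ∃ (n : ℕ) (v : q₀.primeCompl), (v : B) • (i z : B) ^ n • x = 0 := fun z => by
    obtain ⟨n, hn⟩ : algebraMap B O (i z : B) ∈ ((⊥ : Submodule O G).colon {y}).radical :=
      hy ▸ (IsLocalization.AtPrime.to_map_mem_maximal_iff O q₀ _).2 (i z).2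
    rw [← map_pow, Submodule.mem_colon_singleton, Submodule.mem_bot, algebraMap_smul] at hn
    refine ⟨n, ?_⟩
    obtain ⟨v, hv⟩ := (IsLocalizedModule.eq_zero_iff q₀.primeCompl l).1
      (show l ((i z : B) ^ n • x) = 0 by rw [map_smul, ← hs, smul_comm, hn, smul_zero])
    exact ⟨v, hv⟩
  choose n v hv using hkill
  let m := ((∏ z, v z : q₀.primeCompl) : B) • x
  have hm : ∀ z, (i z : B) ^ n z • m = 0 := fun z => by
    show (i z : B) ^ n z • ((∏ z, v z : q₀.primeCompl) : B) • x = 0
    rw [smul_comm, ← Finset.mul_prod_erase Finset.univ v (Finset.mem_univ z), Submonoid.coe_mul,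
      mul_comm ((v z : q₀.primeCompl) : B), mul_smul, hv z, smul_zero]
  refine ⟨m, fun b hb => ?_, fun b c hc h0 => ?_⟩
  · obtain ⟨c, hc, hcb⟩ := hgen b hb
    let K : Ideal B := (⊥ : Submodule B M).colon {m}
    have hle : Ideal.span (Set.range fun z => (i z : B)) ≤ K.radical := Ideal.span_le.2 (by
      rintro _ ⟨z, rfl⟩
      exact ⟨n z, Submodule.mem_colon_singleton.2 ((Submodule.mem_bot B).2 (hm z))⟩)
    obtain ⟨k, hk⟩ := hle hcb
    rw [Submodule.mem_colon_singleton, Submodule.mem_bot, mul_pow, mul_smul, ← map_pow, algebraMap_smul] at hk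
    exact ⟨c ^ k, k, pow_ne_zero k hc, hk⟩
  · by_contra hb
    have hcq : algebraMap A B c ∉ q₀ := fun h => hc (by rwa [← Ideal.mem_comap, hq₀A, Ideal.mem_bot] at h)
    have hu : algebraMap A B c * (b * ((∏ z, v z : q₀.primeCompl) : B)) ∈ q₀.primeCompl :=
      q₀.primeCompl.mul_mem hcq (q₀.primeCompl.mul_mem hb (∏ z, v z : q₀.primeCompl).2)
    have hx0 : l x = 0 := (IsLocalizedModule.eq_zero_iff q₀.primeCompl l).2 ⟨⟨_, hu⟩, by
      show (algebraMap A B c * (b * _)) • x = 0
      rw [mul_smul, mul_smul, algebraMap_smul]; exact h0⟩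
    refine (maximalIdeal.isMaximal O).ne_top ?_
    rw [hy, show y = 0 from IsLocalizedModule.smul_injective l s ((hs.trans hx0).trans (smul_zero (s : B)).symm)]
    exact Ideal.radical_eq_top.2 (top_le_iff.1 fun a _ =>
      Submodule.mem_colon_singleton.2 (by rw [smul_zero]; exact zero_mem _))

/-- Over a dense open of the base, the associated primes of the fibres avoid `V(I)`, or all fibres
have an associated prime in `V(I)`. -/
theorem fibre_dichotomy (I : Ideal B) :
    (∃ a : A, a ≠ 0 ∧ ∀ (q : Ideal B) [q.IsPrime], algebraMap A B a ∉ q → I ≤ q →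
      ∀ (O : Type u) [CommRing O] [IsLocalRing O] [Algebra B O] [IsLocalization.AtPrime O q] [Algebra A O]
        [IsScalarTower A B O] (G : Type u) [AddCommGroup G] [Module O G] [Module B G] [IsScalarTower B O G]
        (l : M →ₗ[B] G) [IsLocalizedModule q.primeCompl l],
        ¬ IsAssociatedPrime (maximalIdeal O)
          (G ⧸ ((q.comap (algebraMap A B)).map (algebraMap A O) • ⊤ : Submodule O G))) ∨
    ∃ a : A, a ≠ 0 ∧ ∀ (p : Ideal A) [p.IsPrime], a ∉ p →
      ∃ (q : Ideal B) (_ : q.IsPrime), I ≤ q ∧ q.comap (algebraMap A B) = p ∧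
      ∀ (O : Type u) [CommRing O] [IsLocalRing O] [Algebra B O] [IsLocalization.AtPrime O q] [Algebra A O]
        [IsScalarTower A B O] (G : Type u) [AddCommGroup G] [Module O G] [Module B G] [IsScalarTower B O G]
        (l : M →ₗ[B] G) [IsLocalizedModule q.primeCompl l],
        IsAssociatedPrime (maximalIdeal O)
          (G ⧸ (p.map (algebraMap A O) • ⊤ : Submodule O G)) := by
  obtain ⟨a₁, ha₁, hfree, -⟩ := Groth.Agent.S0389.result (R := A) (S := B) (M := M)
  haveI := hfree
  rcases generic_dichotomy (A := A) M I with ⟨h, hhI, hh⟩ | ⟨q₀, hq₀, hIq₀, hq₀A, m, hm⟩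
  · let φ : M →ₗ[B] M := h • LinearMap.id
    obtain ⟨a₂, ha₂, hfree₂, -⟩ := Groth.Agent.S0389.result (R := A) (S := B) (M := M ⧸ LinearMap.range φ)
    haveI := hfree₂
    refine .inl ⟨a₁ * a₂, mul_ne_zero ha₁ ha₂, ?_⟩
    intro q _ haq hIq O _ _ _ _ _ _ G _ _ _ _ l _
    haveI := flat_away_of_free (C := M ⧸ LinearMap.range φ) (dvd_mul_left a₂ a₁)
    letI : Module A G := Module.compHom G (algebraMap A O)
    haveI : IsScalarTower A O G := IsScalarTower.of_algebraMap_smul fun _ _ => rfl
    haveI : IsScalarTower A B G := IsScalarTower.of_algebraMap_smul fun r n => by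
      rw [← algebraMap_smul O (algebraMap A B r) n, ← IsScalarTower.algebraMap_apply A B O]
      rfl
    set p := q.comap (algebraMap A B) with hp
    let P : Submodule O G := p.map (algebraMap A O) • ⊤
    have hP : ∀ z, z ∈ P ↔ z ∈ p • (⊤ : Submodule A G) := fun z =>
      ⟨mem_smul_top_of_mem_map_smul_top, fun hz => Submodule.smul_induction_on hz
        (fun a ha n _ => by
          rw [← algebraMap_smul O a n]
          exact Submodule.smul_mem_smul (Ideal.mem_map_of_mem _ ha) trivial) fun _ _ => add_mem⟩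
    have hcancel : ∀ (s : q.primeCompl) (z : G), (s : B) • z ∈ P → z ∈ P := fun s z hz => by
      rw [← algebraMap_smul O (s : B) z] at hz
      obtain ⟨u, hu⟩ := IsLocalization.map_units O s
      rw [← hu] at hz
      have := P.smul_mem ((u⁻¹ : Oˣ) : O) hz
      rwa [smul_smul, Units.inv_mul, one_smul] at this
    have hinj : ∀ y : G ⧸ P, algebraMap B O h • y = 0 → y = 0 := fun y hy => by
      obtain ⟨z, rfl⟩ := Submodule.Quotient.mk_surjective _ y
      rw [← Submodule.Quotient.mk_smul, Submodule.Quotient.mk_eq_zero, algebraMap_smul] at hy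
      rw [Submodule.Quotient.mk_eq_zero]
      obtain ⟨⟨x, s⟩, hs⟩ := IsLocalizedModule.surj q.primeCompl l z
      refine hcancel s z ?_
      show (s : B) • z ∈ P
      rw [show (s : B) • z = l x from hs, hP]
      have hx : l (h • x) ∈ p • (⊤ : Submodule A G) := by
        rw [map_smul, ← hs, Submonoid.smul_def, smul_comm]
        exact smul_mem_smul_top' _ ((hP _).1 hy)
      obtain ⟨t, ht, n, hn, e⟩ := exists_smul_eq_of_mem_smul_top q.primeCompl l p hx
      rw [← map_smul, IsLocalizedModule.eq_iff_exists q.primeCompl l] at e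
      obtain ⟨⟨w, hw⟩, e⟩ := e
      rw [Submonoid.mk_smul, Submonoid.mk_smul] at e
      have h2 : φ.restrictScalars A ((w * t) • x) ∈ p • (⊤ : Submodule A M) := by
        show h • (w * t) • x ∈ _
        rw [smul_comm, mul_smul, e]
        exact smul_mem_smul_top' _ hn
      obtain ⟨k, hk⟩ := exists_pow_smul_mem_smul_top_of_flat_coker (φ.restrictScalars A)
        ((LinearMap.range φ).mkQ.restrictScalars A) (fun y => (LinearMap.exact_map_mkQ_range φ) y)
        (Submodule.mkQ_surjective _) (a₁ * a₂) (fun y hy => by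
          obtain ⟨c, hc, hcy⟩ := hh y 1 one_ne_zero (by rw [one_smul]; exact hy)
          exact (exists_pow_smul_eq_zero_of_torsion M a₁ ha₁ hc hcy).imp fun k hk => by
            rw [mul_pow, mul_comm, mul_smul, hk, smul_zero]) p h2
      have hu : algebraMap A B ((a₁ * a₂) ^ k) * (w * t) ∈ q.primeCompl :=
        q.primeCompl.mul_mem (by rw [map_pow]; exact q.primeCompl.pow_mem haq k) (q.primeCompl.mul_mem hw ht)
      refine (hP _).1 (hcancel ⟨_, hu⟩ _ ((hP _).2 ?_))
      show (algebraMap A B ((a₁ * a₂) ^ k) * (w * t)) • l x ∈ _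
      rw [← map_smul, mul_smul, algebraMap_smul]
      exact map_smul_top_le (l.restrictScalars A) p hk
    rintro ⟨-, y, hy⟩
    have hhm : algebraMap B O h ∈ maximalIdeal O :=
      (IsLocalization.AtPrime.to_map_mem_maximal_iff O q h).2 (hIq hhI)
    rw [hy] at hhm
    obtain ⟨k, hk⟩ := hhm
    rw [Submodule.mem_colon_singleton, Submodule.mem_bot] at hk
    have hy0 : y = 0 := by
      induction k with
      | zero => rwa [pow_zero, one_smul] at hk
      | succ k ih => exact ih (hinj _ (by rwa [pow_succ', mul_smul] at hk))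
    refine (maximalIdeal.isMaximal O).ne_top ?_
    rw [hy, hy0]
    exact Ideal.radical_eq_top.2 (top_le_iff.1 fun a _ =>
      Submodule.mem_colon_singleton.2 (by rw [smul_zero]; exact zero_mem _))
  · obtain ⟨a₂, ha₂, hfree₂, -⟩ := Groth.Agent.S0389.result (R := A) (S := B) (M := M ⧸ Submodule.span B {m})
    obtain ⟨a₃, ha₃, hfree₃, -⟩ := Groth.Agent.S0389.result (R := A) (S := B) (M := B ⧸ q₀)
    haveI := hfree₂
    haveI := hfree₃
    refine .inr ⟨a₁ * a₂ * a₃, mul_ne_zero (mul_ne_zero ha₁ ha₂) ha₃, fun p _ hap => ?_⟩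
    obtain ⟨hap₁₂, hap₃⟩ := not_or.1 fun h => hap (h.elim (p.mul_mem_right _) (p.mul_mem_left _))
    obtain ⟨hap₁, hap₂⟩ := not_or.1 fun h => hap₁₂ (h.elim (p.mul_mem_right _) (p.mul_mem_left _))
    obtain ⟨q', hq', hle', hq'A⟩ := exists_prime_over q₀ hq₀A a₃ ha₃ p hap₃
    obtain ⟨q, hqmin, hqle⟩ := Ideal.exists_minimalPrimes_le (I := q₀ ⊔ p.map (algebraMap A B)) (J := q')
      (sup_le hle' (Ideal.map_le_iff_le_comap.2 hq'A.ge))
    haveI hqp : q.IsPrime := hqmin.1.1
    have hqA : q.comap (algebraMap A B) = p := le_antisymm ((Ideal.comap_mono hqle).trans hq'A.le)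
      (Ideal.map_le_iff_le_comap.1 (le_sup_right.trans hqmin.1.2))
    refine ⟨q, hqp, hIq₀.trans (le_sup_left.trans hqmin.1.2), hqA, ?_⟩
    intro O _ _ _ _ _ _ G _ _ _ _ l _
    exact isAssociatedPrime_of_minimal M a₁ a₂ ha₁ q₀ m
      (fun b hb => by obtain ⟨c, hc, h⟩ := (hm b).1 hb; exact ⟨c, 1, hc, by rwa [pow_one]⟩)
      (fun b c hc h => (hm b).2 ⟨c, hc, h⟩) p hap₁ hap₂ q hqA hqmin O G l

end main

end Groth.Agent.RelAssGen
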